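import Cfsg.Agent.Lib.BNSteinberg.Chevalley
import Cfsg.Agent.Lib.Chev.All

/-!
# The height grading of a Chevalley group and orders of unipotent elements
-/

set_option autoImplicit false

namespace CfsgLib.ChevHeight

open Cfsg.Lie CfsgLib.Chev CfsgLib.BNSteinberg

universe v

variable {D : ChevalleyDatum} {co : ℕ → ℕ → ℤ}

/-- The height of a root. -/
def height (D : ChevalleyDatum) (co : ℕ → ℕ → ℤ) (r : ℕ) : ℤ := ∑ j ∈ Finset.range D.rank, co r j

theorem isWeight_height (hF : Facts D co) : IsWeight D (height D co) := by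
  refine ⟨fun r hr => ?_, fun r hr s hs k h => ?_⟩
  · simp only [height, ← Finset.sum_neg_distrib]
    exact Finset.sum_congr rfl fun j hj => hF.co_neg r hr j (Finset.mem_range.mp hj)
  · simp only [height, ← Finset.sum_add_distrib]
    exact Finset.sum_congr rfl fun j hj => hF.co_add r hr s hs k h j (Finset.mem_range.mp hj)

theorem one_le_height (hF : Facts D co) {r : ℕ} (hr : r < D.nroots) (hp : D.nroots / 2 ≤ r) :
    1 ≤ height D co r := by
  by_contra hc
  have h0 : ∑ j ∈ Finset.range D.rank, co r j = 0 :=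
    le_antisymm (by rw [height] at hc; omega)
      (Finset.sum_nonneg fun j hj => hF.co_nonneg r hr hp j (Finset.mem_range.1 hj))
  have hz : ∀ j < D.rank, co r j = 0 := fun j hj =>
    (Finset.sum_eq_zero_iff_of_nonneg fun j hj => hF.co_nonneg r hr hp j (Finset.mem_range.1 hj)).1 h0 j
      (Finset.mem_range.2 hj)
  have := hF.omega_pos hr hp
  rw [omega] at this
  rw [List.sum_eq_zero (fun x hx => by
    obtain ⟨j, hj, rfl⟩ := List.mem_map.1 hx
    rw [hz j (List.mem_range.1 hj), zero_mul])] at this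
  exact lt_irrefl 0 this

variable {K : Type v} [Field K]

theorem pos_height_ut (hF : Facts D co) {g : GL D.Idx K}
    (hg : g ∈ rootClosure D K (D.nroots / 2 ≤ ·)) :
    UT (wt D (height D co)) 1 (g : Matrix D.Idx D.Idx K) := by
  have hx : ∀ r, r < D.nroots → D.nroots / 2 ≤ r → ∀ t : K,
      UT (wt D (height D co)) 1 ((xU D r t : GL D.Idx K) : Matrix D.Idx D.Idx K) := by
    intro r hr hp t a b h
    rw [hF.xU_val' hr, xR, Finset.sum_range_succ', pow_zero, one_smul, divPow, map_one,
      add_sub_cancel_right, Matrix.sum_apply] at h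
    obtain ⟨m, -, hm⟩ := Finset.exists_ne_zero_of_sum_ne_zero h
    have hne : divPow D r (m + 1) a b ≠ 0 := fun e => hm (by simp [RingHom.mapMatrix_apply, e])
    have := hF.divPow_wt (isWeight_height hF) hr (m + 1) hne
    rw [nsmul_eq_mul] at this
    have h1 := one_le_height hF hr hp
    have := le_mul_of_one_le_left (show 0 ≤ height D co r by omega)
      (show (1 : ℤ) ≤ ((m + 1 : ℕ) : ℤ) by omega)
    omega
  refine ut_closure (by norm_num) ?_ hg
  rintro x ⟨r, t, hr, hp, rfl⟩
  rw [hF.xU_inv hr]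
  exact ⟨hx r hr hp t, hx r hr hp (-t)⟩

theorem ut_sub_one_pow {w : D.Idx → ℤ} {M : Matrix D.Idx D.Idx K} (h : UT w 1 M) :
    ∀ (N : ℕ) (a b : D.Idx), ((M - 1) ^ N) a b ≠ 0 → (N : ℤ) + w b ≤ w a := by
  intro N
  induction N with
  | zero =>
    intro a b hab
    rw [pow_zero, Matrix.one_apply] at hab
    have : a = b := by_contra fun hne => hab (if_neg hne)
    subst this
    simp
  | succ N ih =>
    intro a b hab
    rw [pow_succ, Matrix.mul_apply] at hab
    obtain ⟨c, -, hc⟩ := Finset.exists_ne_zero_of_sum_ne_zero hab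
    have := ih a c (left_ne_zero_of_mul hc)
    have := h c b (right_ne_zero_of_mul hc)
    push_cast
    omega

/-- The `p`-elements of a finite Chevalley group have order dividing any power of `p` exceeding twice
the largest height. -/
theorem pow_eq_one (hF : Facts D co) (hC : CommF.{v} D) {p : ℕ} [Fact p.Prime] [CharP K p] [Finite K]
    {H : ℕ} (hH : ∀ r < D.nroots, |height D co r| ≤ (H : ℤ)) {k : ℕ} (hk : 2 * H < p ^ k)
    {g : GL D.Idx K} (hg : g ∈ D.group K) {j : ℕ} (hj : g ^ p ^ j = 1) : g ^ p ^ k = 1 := by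
  have hs := split hF hC (K := K) p
  obtain ⟨Q, hQ⟩ := hs.exists_sylow
  have hpg : IsPGroup p (Subgroup.zpowers (⟨g, hg⟩ : ↥(D.group K))) := by
    rintro ⟨x, hx⟩
    obtain ⟨n, rfl⟩ := Subgroup.mem_zpowers_iff.1 hx
    refine ⟨j, Subtype.ext ?_⟩
    rw [SubgroupClass.coe_pow, OneMemClass.coe_one, ← zpow_natCast, ← zpow_mul, mul_comm, zpow_mul, zpow_natCast,
      show (⟨g, hg⟩ : ↥(D.group K)) ^ p ^ j = 1 from Subtype.ext hj, one_zpow]
  obtain ⟨R, hR⟩ := hpg.exists_le_sylow
  obtain ⟨c, rfl⟩ := MulAction.exists_smul_eq (↥(D.group K)) Q R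
  have hmem := hR (Subgroup.mem_zpowers (⟨g, hg⟩ : ↥(D.group K)))
  rw [Sylow.coe_subgroup_smul, Subgroup.mem_pointwise_smul_iff_inv_smul_mem, hQ] at hmem
  set u : ↥(D.group K) := (MulAut.conj c)⁻¹ • (⟨g, hg⟩ : ↥(D.group K)) with hu
  have hu1 : (u : GL D.Idx K) ∈ rootClosure D K (D.nroots / 2 ≤ ·) := by
    rw [← hF.posUnipotent_eq]; exact hmem
  have hbound : ∀ a : D.Idx, |wt D (height D co) a| ≤ (H : ℤ) := by
    intro a
    rcases a with i | s
    · simp [wt]
    · exact hH s.val s.2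
  have hnil : (((u : GL D.Idx K) : Matrix D.Idx D.Idx K) - 1) ^ p ^ k = 0 := by
    ext a b
    by_contra hab
    have h1 := ut_sub_one_pow (pos_height_ut hF hu1) _ a b hab
    have h2 := abs_le.1 (hbound a)
    have h3 := abs_le.1 (hbound b)
    omega
  have hupow : (u : GL D.Idx K) ^ p ^ k = 1 := by
    refine Units.ext ?_
    haveI : Nonempty D.Idx := ⟨Sum.inl ⟨0, hF.rank_pos⟩⟩
    haveI : CharP (Matrix D.Idx D.Idx K) p := inferInstance
    rw [sub_pow_char_pow_of_commute p k (Commute.one_right _), one_pow, sub_eq_zero] at hnil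
    rw [Units.val_pow_eq_pow_val, hnil, Units.val_one]
  have he : (⟨g, hg⟩ : ↥(D.group K)) = c * u * c⁻¹ := by
    rw [hu, MulAut.smul_def, MulAut.conj_inv_apply]
    group
  have e2 : (⟨g, hg⟩ : ↥(D.group K)) ^ p ^ k = 1 := by
    rw [he, conj_pow, show u ^ p ^ k = 1 from Subtype.ext hupow, mul_one, mul_inv_cancel]
  exact congrArg Subtype.val e2

end CfsgLib.ChevHeight
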